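import Mathlib
import Cfsg.Agent.Lib.helper3.SPM.Defs
import Cfsg.Agent.Lib.Helper27.STU.Defs
import Cfsg.Agent.Lib.Helper27.STU.Defs2

/-!
# Project GLE (designer helper20): block GLE of project PSU (S2291, architect helper27).
`SU_{2m}(q)`, `m ≥ 3`, has a presentation on `k + 6` generators with `r + r₄ + 29` relators (`25` if `m = 3`), where `⟨k | r⟩` is any presentation
of the symmetric group `S_m` and `⟨6 | r₄⟩` any presentation of `SU₄(q)` (project SU4 of helper22: `r₄ ≤ 35`; `S_m`: `r ≤ 6`; total `≤ 70 ≤ 77`).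

PORT of helper3's project SPM (`Cfsg/Agent/Lib/helper3/SPM/Defs.lean`, `Skel1.lean.txt`: `S_m` + `Sp₄(F)` → `Sp_{2m}(F)`) to the unitary Steinberg systems
`SysU F False ι G` of helper27's project STU (`Cfsg/Agent/Lib/Helper27/STU/Defs.lean`; field `F` with involution `star`, signed indices `ι ⊕ ι`, `ng`, `ab` as in STC, NO signs).
The rank two group is an ABSTRACT group `L` with a generating system `S₂ : SysU F False (Fin 2) L` and an element `swL : L` acting as the transposition `(0 1)`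
(in the application `L = SU₄(q)`, `S₂` the system of block MOD for `n = 4`).  Base points `Pts ι`, `pe`, `pe2`, `sgm`, `sn`, `sig2`, `ptsFin` and all of block A of SPM are REUSED.

NEW with respect to SPM: the long tori only scale by the fixed field `F₀ = {s | star s = s}`, so every gluing relator which involves the short root element `x_{e₀ - e₁}(1)`
is imposed for the two parameters `1` and `ζ` (`F = F₀ + F₀ ζ`), and the families are spread by `F₀`-scaling AND additivity.  The 29 gluing relators (`Glue`):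
* `sw` (1): `ν (swap o0 o1) = lam swL`;
* `stab1` (2 × 3): the stabiliser of `o1` in `S_m` centralises the long-root `SL₂(F₀)` `B1` on the index `1` of `L`;
* `stab01` (2 × 2): the pointwise stabiliser of `o0 o1` centralises `x_{e₀ - e₁}(1)`, `x_{e₀ - e₁}(ζ)`;
* `d3` (2 × 3): `x_{e₀ - e₁}(1)`, `x_{e₀ - e₁}(ζ)` commute with the long-root `SL₂(F₀)` on the index `o2`;
* `d4` (4, only if `m ≥ 4`): `[x_{e₀ - e₁}(t), x_{e₂ - e₃}(u)] = 1`, `t u ∈ {1, ζ}`;
* `c1` (4): `[x_{01}(t), x_{12}(u)] = x_{02}(t u)`, `t u ∈ {1, ζ}`;  `c2` (4): `[x_{01}(t), x_{02}(u)] = 1`, `t u ∈ {1, ζ}`.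
-/

set_option autoImplicit false

namespace Cfsg.Agent.Lib.Helper20.GLE

open Cfsg.Agent.Lib.helper3.STC (ng ab)
open Cfsg.Agent.Lib.helper3.SPM (Pts pe sgm sn sig2 ptsFin pe2)
open Cfsg.Agent.Lib.Helper27.STU
open Cfsg.Agent.Lib.helper17.SLP (cm)

universe u v w x

/-! ## the rank two group -/

section Rank2

variable {F : Type u} [Field F] [StarRing F] {L : Type x} [Group L]

/-- the long-root `SL₂(F₀)` on the index `1` of the rank two group. -/
def B1 (S₂ : SysU F False (Fin 2) L) : Subgroup L := S₂.XQ (fun a b => ab a = 1 ∧ ab b = 1)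

/-- `x_{e₀ - e₁}(t)` in the rank two group. -/
def uA (S₂ : SysU F False (Fin 2) L) (t : F) : L := S₂.xs (Sum.inl 0) (Sum.inl 1) t

/-- The facts on the rank two group used by the abstract side (block M proves them for `L = SU₄(q)`; `gen4`, `comm01` also follow from the theory STU). -/
structure UFacts (S₂ : SysU F False (Fin 2) L) (swL : L) (ζ : F) : Prop where
  /-- `L` is generated by `x_{e₀ - e₁}(1)`, `x_{e₀ - e₁}(ζ)`, the permutation element and the long-root `SL₂` on the index `1` -/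
  gen4 : Subgroup.closure ({uA S₂ 1, uA S₂ ζ, swL} ∪ (B1 S₂ : Set L)) = ⊤
  /-- the permutation element permutes the root elements -/
  sw_mon : S₂.IsMon swL (sgm (Equiv.swap 0 1)) (fun _ => 1) 1
  /-- the long-root `SL₂`'s on the two indices commute -/
  comm01 : ∀ g ∈ B1 S₂, ∀ g' ∈ B1 S₂, Commute (swL * g * swL⁻¹) g'
  /-- `L` is generated by the root elements -/
  esp : S₂.XQ (fun _ _ => True) = ⊤
  /-- `F = F₀ + F₀ ζ` -/
  span : ∀ t : F, ∃ s s' : F, star s = s ∧ star s' = s' ∧ t = s + s' * ζ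
  /-- all Weyl and torus elements of `L` act monomially (STU K1) -/
  hW : S₂.HW
  hH : S₂.HH

end Rank2

/-! ## root elements in an abstract group -/

section Roots

variable {F : Type u} [Field F] [StarRing F] {L : Type x} [Group L] {ι : Type w} [DecidableEq ι] {G : Type v} [Group G]

/-- `lam` conjugated by `ν σ`. -/
def lamC (ν : Equiv.Perm ι →* G) (lam : L →* G) (σ : Equiv.Perm ι) : L →* G :=
  (MulAut.conj (ν σ)).toMonoidHom.comp lam

/-- the copy of `L` on the ordered pair `(i, j)`. -/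
def lamP (p : Pts ι) (ν : Equiv.Perm ι →* G) (lam : L →* G) (i j : ι) : L →* G :=
  lamC ν lam (sig2 p i j)

/-- the long-root `SL₂(F₀)` on the index `k`. -/
def LB (S₂ : SysU F False (Fin 2) L) (p : Pts ι) (ν : Equiv.Perm ι →* G) (lam : L →* G) (k : ι) : Subgroup G :=
  (B1 S₂).map (lamC ν lam (Equiv.swap p.o1 k))

/-- the short root element `x_{a b}(t)` (`ab a ≠ ab b`). -/
def xrs (S₂ : SysU F False (Fin 2) L) (p : Pts ι) (ν : Equiv.Perm ι →* G) (lam : L →* G) (a b : ι ⊕ ι) (t : F) : G :=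
  lamC ν lam (sig2 p (ab a) (ab b)) (S₂.xs (sn a 0) (sn b 1) t)

/-- the long root element `x_{a, -a}(ξ)`. -/
def xrl (S₂ : SysU F False (Fin 2) L) (p : Pts ι) (ν : Equiv.Perm ι →* G) (lam : L →* G) (a : ι ⊕ ι) (ξ : Lam F False) : G :=
  lamC ν lam (Equiv.swap p.o1 (ab a)) (S₂.xl (sn a 1) ξ)

/-- the long Weyl element `w_a(ξ)`. -/
def wrl (S₂ : SysU F False (Fin 2) L) (p : Pts ι) (ν : Equiv.Perm ι →* G) (lam : L →* G) (a : ι ⊕ ι) (ξ : Lam F False) : G :=
  xrl S₂ p ν lam a ξ * xrl S₂ p ν lam (ng a) (Lam.mu ξ) * xrl S₂ p ν lam a (Lam.nu ξ)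

/-- the long torus element `h_a(ξ, η)`. -/
def hrl (S₂ : SysU F False (Fin 2) L) (p : Pts ι) (ν : Equiv.Perm ι →* G) (lam : L →* G) (a : ι ⊕ ι) (ξ η : Lam F False) : G :=
  wrl S₂ p ν lam a ξ * (wrl S₂ p ν lam a η)⁻¹

/-- `g` acts monomially on the root elements `xrs`, `xrl` (the analogue of `SysU.IsMon` with `d0 = 1` before the system is built). -/
def PMon (S₂ : SysU F False (Fin 2) L) (p : Pts ι) (ν : Equiv.Perm ι →* G) (lam : L →* G) (g : G) (π : Equiv.Perm (ι ⊕ ι))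
    (d : ι ⊕ ι → F) : Prop :=
  SysU.MonData π d 1 ∧
    (∀ a b, ab a ≠ ab b → ∀ t, g * xrs S₂ p ν lam a b t * g⁻¹ = xrs S₂ p ν lam (π a) (π b) (d a * (d b)⁻¹ * t)) ∧
    ∀ a ξ, g * xrl S₂ p ν lam a ξ * g⁻¹ = xrl S₂ p ν lam (π a) (Lam.act (d a) ξ)

/-- The gluing hypotheses. -/
structure Glue (S₂ : SysU F False (Fin 2) L) (swL : L) (ζ : F) (p : Pts ι) (ν : Equiv.Perm ι →* G) (lam : L →* G) : Prop where
  /-- the transposition `(o0 o1)` is the permutation element of `L` -/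
  sw : ν (Equiv.swap p.o0 p.o1) = lam swL
  /-- the stabiliser of `o1` centralises the long-root `SL₂` on the index `1` -/
  stab1 : ∀ σ : Equiv.Perm ι, σ p.o1 = p.o1 → ∀ g ∈ B1 S₂, ν σ * lam g * (ν σ)⁻¹ = lam g
  /-- the pointwise stabiliser of `o0 o1` centralises `x_{e₀ - e₁}(1)` and `x_{e₀ - e₁}(ζ)` -/
  stab01 : ∀ σ : Equiv.Perm ι, σ p.o0 = p.o0 → σ p.o1 = p.o1 → ∀ t : F, t = 1 ∨ t = ζ →
    ν σ * lam (uA S₂ t) * (ν σ)⁻¹ = lam (uA S₂ t)
  /-- `x_{e₀ - e₁}(1)`, `x_{e₀ - e₁}(ζ)` commute with the long-root `SL₂` on the index `o2` -/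
  d3 : ∀ t : F, t = 1 ∨ t = ζ → ∀ g ∈ B1 S₂, Commute (lam (uA S₂ t)) (lamC ν lam (Equiv.swap p.o1 p.o2) g)
  /-- `[x_{e₀ - e₁}(t), x_{e₂ - e₃}(u)] = 1` -/
  d4 : ∀ x ∈ p.o3, ∀ t : F, t = 1 ∨ t = ζ → ∀ u : F, u = 1 ∨ u = ζ →
    Commute (lam (uA S₂ t)) (lamC ν lam (Equiv.swap p.o0 p.o2 * Equiv.swap p.o1 x) (uA S₂ u))
  /-- `[x_{01}(t), x_{12}(u)] = x_{02}(t u)` -/
  c1 : ∀ t : F, t = 1 ∨ t = ζ → ∀ u : F, u = 1 ∨ u = ζ →
    cm (lam (uA S₂ t)) (lamC ν lam (Equiv.swap p.o0 p.o1 * Equiv.swap p.o1 p.o2) (uA S₂ u)) =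
      lamC ν lam (Equiv.swap p.o1 p.o2) (uA S₂ (t * u))
  /-- `[x_{01}(t), x_{02}(u)] = 1` -/
  c2 : ∀ t : F, t = 1 ∨ t = ζ → ∀ u : F, u = 1 ∨ u = ζ →
    Commute (lam (uA S₂ t)) (lamC ν lam (Equiv.swap p.o1 p.o2) (uA S₂ u))

/-- the family `[x_{ab}(t), x_{bc}(u)] = x_{ac}(t u)`. -/
def P1 (S₂ : SysU F False (Fin 2) L) (p : Pts ι) (ν : Equiv.Perm ι →* G) (lam : L →* G) (a b c : ι ⊕ ι) : Prop :=
  ∀ t u : F, cm (xrs S₂ p ν lam a b t) (xrs S₂ p ν lam b c u) = xrs S₂ p ν lam a c (t * u)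

/-- the family `[x_{ab}(t), x_{ad}(u)] = 1`. -/
def P2 (S₂ : SysU F False (Fin 2) L) (p : Pts ι) (ν : Equiv.Perm ι →* G) (lam : L →* G) (a b d : ι ⊕ ι) : Prop :=
  ∀ t u : F, Commute (xrs S₂ p ν lam a b t) (xrs S₂ p ν lam a d u)

/-- the family `[x_{ab}(t), x_{cd}(u)] = 1`. -/
def P4 (S₂ : SysU F False (Fin 2) L) (p : Pts ι) (ν : Equiv.Perm ι →* G) (lam : L →* G) (a b c d : ι ⊕ ι) : Prop :=
  ∀ t u : F, Commute (xrs S₂ p ν lam a b t) (xrs S₂ p ν lam c d u)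

end Roots

end Cfsg.Agent.Lib.Helper20.GLE
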