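import Mathlib
import Cfsg.Agent.Lib.Helper20.GLE.Defs
import Cfsg.Agent.Lib.helper3.SPM.DefsP

/-!
# Project GLE: definitions for block P (presentations).  `inN inL evG` (`helper3.SPM.Defs`) and `evN evL` (`helper3.SPM.DefsP`) are REUSED
(words in `FreeGroup (Fin (k + 6))`: the `k` generators of `S_m`, then the six generators of the rank two group `L`).
-/

set_option autoImplicit false

namespace Cfsg.Agent.Lib.Helper20.GLE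

open Cfsg.Agent.Lib.helper3.STC (ng ab)
open Cfsg.Agent.Lib.helper3.SPM (Pts pe sgm sn sig2 ptsFin pe2 inN inL evG evN evL)
open Cfsg.Agent.Lib.Helper27.STU
open Cfsg.Agent.Lib.helper17.SLP (cm)

universe u v w x

section Words

variable {F : Type u} [Field F] [StarRing F] {L : Type x} [Group L] {ι : Type w} [DecidableEq ι] {k : ℕ}

/-- the word of `ν σ * lam g * (ν σ)⁻¹` (`wN`, `wL` = chosen words of the elements of `S_m`, `L`). -/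
def Wc (wN : Equiv.Perm ι → FreeGroup (Fin k)) (wL : L → FreeGroup (Fin 6)) (σ : Equiv.Perm ι) (g : L) :
    FreeGroup (Fin (k + 6)) :=
  inN (wN σ) * inL (wL g) * (inN (wN σ))⁻¹

/-- the 29 (25 if there is no fourth index) gluing relators; `c d` generate the stabiliser of `o1`, `c' d'` the pointwise stabiliser of `o0 o1`,
`b 0, b 1, b 2` generate `B1 S₂`. -/
def wordsGlue (S₂ : SysU F False (Fin 2) L) (swL : L) (ζ : F) (p : Pts ι) (wN : Equiv.Perm ι → FreeGroup (Fin k))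
    (wL : L → FreeGroup (Fin 6)) (c d c' d' : Equiv.Perm ι) (b : Fin 3 → L) : List (FreeGroup (Fin (k + 6))) :=
  [inN (wN (Equiv.swap p.o0 p.o1)) * (inL (wL swL))⁻¹] ++
  [cm (inN (wN c)) (inL (wL (b 0))), cm (inN (wN c)) (inL (wL (b 1))), cm (inN (wN c)) (inL (wL (b 2))),
    cm (inN (wN d)) (inL (wL (b 0))), cm (inN (wN d)) (inL (wL (b 1))), cm (inN (wN d)) (inL (wL (b 2)))] ++
  [cm (inN (wN c')) (inL (wL (uA S₂ 1))), cm (inN (wN c')) (inL (wL (uA S₂ ζ))),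
    cm (inN (wN d')) (inL (wL (uA S₂ 1))), cm (inN (wN d')) (inL (wL (uA S₂ ζ)))] ++
  [cm (inL (wL (uA S₂ 1))) (Wc wN wL (Equiv.swap p.o1 p.o2) (b 0)), cm (inL (wL (uA S₂ 1))) (Wc wN wL (Equiv.swap p.o1 p.o2) (b 1)),
    cm (inL (wL (uA S₂ 1))) (Wc wN wL (Equiv.swap p.o1 p.o2) (b 2)),
    cm (inL (wL (uA S₂ ζ))) (Wc wN wL (Equiv.swap p.o1 p.o2) (b 0)), cm (inL (wL (uA S₂ ζ))) (Wc wN wL (Equiv.swap p.o1 p.o2) (b 1)),
    cm (inL (wL (uA S₂ ζ))) (Wc wN wL (Equiv.swap p.o1 p.o2) (b 2))] ++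
  (match p.o3 with
    | some x =>
      [cm (inL (wL (uA S₂ 1))) (Wc wN wL (Equiv.swap p.o0 p.o2 * Equiv.swap p.o1 x) (uA S₂ 1)),
        cm (inL (wL (uA S₂ 1))) (Wc wN wL (Equiv.swap p.o0 p.o2 * Equiv.swap p.o1 x) (uA S₂ ζ)),
        cm (inL (wL (uA S₂ ζ))) (Wc wN wL (Equiv.swap p.o0 p.o2 * Equiv.swap p.o1 x) (uA S₂ 1)),
        cm (inL (wL (uA S₂ ζ))) (Wc wN wL (Equiv.swap p.o0 p.o2 * Equiv.swap p.o1 x) (uA S₂ ζ))]
    | none => []) ++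
  [cm (inL (wL (uA S₂ 1))) (Wc wN wL (Equiv.swap p.o0 p.o1 * Equiv.swap p.o1 p.o2) (uA S₂ 1)) *
      (Wc wN wL (Equiv.swap p.o1 p.o2) (uA S₂ (1 * 1)))⁻¹,
    cm (inL (wL (uA S₂ 1))) (Wc wN wL (Equiv.swap p.o0 p.o1 * Equiv.swap p.o1 p.o2) (uA S₂ ζ)) *
      (Wc wN wL (Equiv.swap p.o1 p.o2) (uA S₂ (1 * ζ)))⁻¹,
    cm (inL (wL (uA S₂ ζ))) (Wc wN wL (Equiv.swap p.o0 p.o1 * Equiv.swap p.o1 p.o2) (uA S₂ 1)) *
      (Wc wN wL (Equiv.swap p.o1 p.o2) (uA S₂ (ζ * 1)))⁻¹,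
    cm (inL (wL (uA S₂ ζ))) (Wc wN wL (Equiv.swap p.o0 p.o1 * Equiv.swap p.o1 p.o2) (uA S₂ ζ)) *
      (Wc wN wL (Equiv.swap p.o1 p.o2) (uA S₂ (ζ * ζ)))⁻¹] ++
  [cm (inL (wL (uA S₂ 1))) (Wc wN wL (Equiv.swap p.o1 p.o2) (uA S₂ 1)), cm (inL (wL (uA S₂ 1))) (Wc wN wL (Equiv.swap p.o1 p.o2) (uA S₂ ζ)),
    cm (inL (wL (uA S₂ ζ))) (Wc wN wL (Equiv.swap p.o1 p.o2) (uA S₂ 1)), cm (inL (wL (uA S₂ ζ))) (Wc wN wL (Equiv.swap p.o1 p.o2) (uA S₂ ζ))]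

end Words

end Cfsg.Agent.Lib.Helper20.GLE
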