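import Mathlib
import Cfsg.Agent.Lib.Helper20.GLE.Defs
import Cfsg.Agent.Lib.Helper19.MOD.Defs

/-!
# Project GLE: definitions for block M (the matrix side, on helper19's model `Cfsg.Agent.Lib.Helper19.MOD.Ctx`)

`C : Ctx F n q m False` is a hyperbolic frame `C.fr : Fin m ⊕ Fin m → (Fin n → F)` of the FROZEN hermitian space (`n = 2 m`), `C₂ : Ctx F 4 q 2 False` a frame of the frozen space of dimension four.
* `permMat C σ` is the matrix sending `C.fr a` to `C.fr (sgm σ a)`; `nuM C : Equiv.Perm (Fin m) →* SU_n(q)` the corresponding homomorphism (row M4);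
* `embMat C C₂ p A` is the matrix acting as `A` (in the coordinates of the frame `C₂`) on the span of the `C.fr (pe p a')` and trivially on the other frame vectors;
  `lamM C C₂ p : SU₄(q) →* SU_n(q)` the corresponding homomorphism (row M8).
-/

set_option autoImplicit false

namespace Cfsg.Agent.Lib.Helper20.GLE

open Matrix
open Cfsg.Agent.Lib.helper15.SUn (R)
open Cfsg.Agent.Lib.helper3.STC (ng ab)
open Cfsg.Agent.Lib.helper3.SPM (Pts pe sgm)
open Cfsg.Agent.Lib.Helper27.STU
open Cfsg.Agent.Lib.Helper19.MOD (Ctx)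

universe u

section M

variable {F : Type u} [Field F] [StarRing F] {n q m : ℕ}

/-- the matrix of `x ↦ Σ_a B(x, fr (ng a)) • fr (sgm σ a)`: it sends `C.fr a` to `C.fr (sgm σ a)`. -/
def permMat (C : Ctx F n q m False) (σ : Equiv.Perm (Fin m)) : Matrix (Fin n) (Fin n) F :=
  ∑ a : Fin m ⊕ Fin m, R C.σ (C.fr (sgm σ a)) (C.fr (ng a))

/-- the matrix acting as `A` (in the coordinates of the frame `C₂`) on the span of the `C.fr (pe p a')`, and fixing the other frame vectors. -/
def embMat (C : Ctx F n q m False) (C₂ : Ctx F 4 q 2 False) (p : Pts (Fin m)) (A : Matrix (Fin 4) (Fin 4) F) :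
    Matrix (Fin n) (Fin n) F :=
  1 + ∑ a' : Fin 2 ⊕ Fin 2, ∑ b' : Fin 2 ⊕ Fin 2,
    (C₂.co (A *ᵥ C₂.fr a') b' - if b' = a' then 1 else 0) • R C.σ (C.fr (pe p b')) (C.fr (ng (pe p a')))

open Classical in
/-- the permutations of the hyperbolic pairs as elements of `SU_n(q)` (row M4: `nuM_coe`). -/
noncomputable def nuM (C : Ctx F n q m False) : Equiv.Perm (Fin m) →* ↥(Cfsg.SU n F q) :=
  if h : ∃ φ : Equiv.Perm (Fin m) →* ↥(Cfsg.SU n F q), ∀ σ,
      ((φ σ : Matrix.SpecialLinearGroup (Fin n) F) : Matrix (Fin n) (Fin n) F) = permMat C σ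
  then h.choose else 1

open Classical in
/-- the block embedding `SU₄(q) → SU_n(q)` on the hyperbolic pairs `o0 o1` (row M8: `lamM_coe`). -/
noncomputable def lamM (C : Ctx F n q m False) (C₂ : Ctx F 4 q 2 False) (p : Pts (Fin m)) :
    ↥(Cfsg.SU 4 F q) →* ↥(Cfsg.SU n F q) :=
  if h : ∃ φ : ↥(Cfsg.SU 4 F q) →* ↥(Cfsg.SU n F q), ∀ A : ↥(Cfsg.SU 4 F q),
      ((φ A : Matrix.SpecialLinearGroup (Fin n) F) : Matrix (Fin n) (Fin n) F) =
        embMat C C₂ p ((A : Matrix.SpecialLinearGroup (Fin 4) F) : Matrix (Fin 4) (Fin 4) F)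
  then h.choose else 1

end M

end Cfsg.Agent.Lib.Helper20.GLE
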